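/-
Reduced hypersurface sections through given height-one primes of a two-dimensional normal local domain:
perturb `f` inside `f + xR` so as to keep the simple zeros found so far and make one more zero simple;
the ideals `J_S + xR` decrease in the Artinian ring `R/(g,x)`.
-/
import Mathlib
import Groth.Agent.InvGen.NormalDvd

set_option autoImplicit false
universe u

namespace Groth.Agent.ReducedHyp

open IsLocalRing

variable {R : Type u} [CommRing R]

/-- `f` vanishes at most simply at `q`. -/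
def Simp (q : Ideal R) (f : R) : Prop := ∀ s ∉ q, s * f ∉ q ^ 2

theorem not_mem_sq (q : Ideal R) [q.IsPrime] {f : R} (h : Simp q f) :
    algebraMap R (Localization.AtPrime q) f ∉ maximalIdeal (Localization.AtPrime q) ^ 2 := by
  intro hf
  rw [← Localization.AtPrime.map_eq_maximalIdeal, ← Ideal.map_pow,
    IsLocalization.algebraMap_mem_map_algebraMap_iff q.primeCompl] at hf
  obtain ⟨s, hs, hsf⟩ := hf
  exact h s hs hsf

theorem exists_simp [IsDomain R] [IsNoetherianRing R] (q : Ideal R) [q.IsPrime] (hq : q ≠ ⊥) :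
    ∃ π ∈ q, Simp q π := by
  by_contra hno
  simp only [not_exists, not_and, Simp, not_forall, not_not] at hno
  let L := Localization.AtPrime q
  have h2 : maximalIdeal L ≤ maximalIdeal L ^ 2 := by
    conv_lhs => rw [← Localization.AtPrime.map_eq_maximalIdeal]
    rw [Ideal.map_le_iff_le_comap]
    intro π hπ
    obtain ⟨s, hs, hsπ⟩ := hno π hπ
    rw [Ideal.mem_comap, ← Localization.AtPrime.map_eq_maximalIdeal, ← Ideal.map_pow,
      IsLocalization.algebraMap_mem_map_algebraMap_iff q.primeCompl]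
    exact ⟨s, hs, hsπ⟩
  have h3 : maximalIdeal L = ⊥ := by
    refine Submodule.eq_bot_of_le_smul_of_le_jacobson_bot (maximalIdeal L) _ (IsNoetherian.noetherian _) ?_
      (IsLocalRing.maximalIdeal_le_jacobson _)
    rwa [smul_eq_mul, ← pow_two]
  obtain ⟨y, hy, hy0⟩ := q.ne_bot_iff.1 hq
  have h4 : algebraMap R L y ∈ maximalIdeal L := by
    rw [← Localization.AtPrime.map_eq_maximalIdeal]
    exact Ideal.mem_map_of_mem _ hy
  rw [h3, Submodule.mem_bot] at h4
  exact hy0 ((IsLocalization.injective L q.primeCompl_le_nonZeroDivisors) (by rw [h4, map_zero]))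

theorem eq_of_le_of_height_one [IsNoetherianRing R] {p q : Ideal R} [p.IsPrime] [q.IsPrime]
    (hp : p.height = 1) (hq : q.height = 1) (h : p ≤ q) : p = q := by
  haveI : q.FiniteHeight := inferInstance
  rcases h.eq_or_lt with e | hlt
  · exact e
  · have := Ideal.height_strict_mono_of_isPrime hlt
    rw [hp, hq] at this
    exact absurd this (lt_irrefl _)

theorem dvd_of_simp [IsDomain R] [IsNoetherianRing R] [IsIntegrallyClosed R] {f : R} (hf : f ≠ 0)
    (hs : ∀ p : Ideal R, p.IsPrime → p.height = 1 → f ∈ p → Simp p f) (n : ℕ) (y : R) (hy : f ∣ y ^ n) :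
    f ∣ y := by
  refine InvGen.dvd_of_forall_height_one hf fun p hp hp1 => ?_
  haveI := hp
  by_cases hfp : f ∈ p
  swap
  · exact ⟨f, hfp, dvd_mul_right f y⟩
  have hyp : y ∈ p := hp.mem_of_pow_mem n (p.mem_of_dvd hy hfp)
  let L := Localization.AtPrime p
  haveI : IsIntegrallyClosed L :=
    isIntegrallyClosed_of_isLocalization L p.primeCompl p.primeCompl_le_nonZeroDivisors
  have hnf : ¬ IsField L := by
    intro hF
    have h1 : algebraMap R L f ∈ maximalIdeal L := by
      rw [← Localization.AtPrime.map_eq_maximalIdeal]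
      exact Ideal.mem_map_of_mem _ hfp
    rw [IsLocalRing.isField_iff_maximalIdeal_eq.1 hF, Submodule.mem_bot] at h1
    exact hf ((IsLocalization.injective L p.primeCompl_le_nonZeroDivisors) (by rw [h1, map_zero]))
  have hdim : Ring.KrullDimLE 1 L := by
    rw [Ring.krullDimLE_iff, IsLocalization.AtPrime.ringKrullDim_eq_height p L, hp1]
    rfl
  have hprinc : (maximalIdeal L).IsPrincipal := by
    have e : (IsIntegrallyClosed L ∧ ∃! P : Ideal L, P ≠ ⊥ ∧ P.IsPrime) ↔ (maximalIdeal L).IsPrincipal :=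
      (IsDiscreteValuationRing.TFAE L hnf).out 3 4
    refine e.1 ⟨‹IsIntegrallyClosed L›, ?_⟩
    refine ⟨maximalIdeal L, ⟨fun h => hnf (IsLocalRing.isField_iff_maximalIdeal_eq.2 h), inferInstance⟩,
      fun P hP => ?_⟩
    haveI := hP.2
    exact IsLocalRing.eq_maximalIdeal (Ring.krullDimLE_one_iff_of_noZeroDivisors.1 hdim P hP.1 hP.2)
  obtain ⟨t, ht⟩ := hprinc
  have hmem : algebraMap R L f ∈ maximalIdeal L := by
    rw [← Localization.AtPrime.map_eq_maximalIdeal]
    exact Ideal.mem_map_of_mem _ hfp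
  have hgen : algebraMap R L y ∈ maximalIdeal L := by
    rw [← Localization.AtPrime.map_eq_maximalIdeal]
    exact Ideal.mem_map_of_mem _ hyp
  rw [ht, Ideal.submodule_span_eq, Ideal.mem_span_singleton'] at hmem
  obtain ⟨w, hw⟩ := hmem
  have hwu : IsUnit w := by
    by_contra hwn
    refine not_mem_sq p (hs p hp hp1 hfp) ?_
    rw [← hw, pow_two]
    exact Ideal.mul_mem_mul ((mem_maximalIdeal _).2 hwn) (ht ▸ Submodule.mem_span_singleton_self t)
  have h5 : algebraMap R L y ∈ Ideal.span {algebraMap R L f} := by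
    rw [← hw, Ideal.span_singleton_mul_left_unit hwu]
    rw [ht, Ideal.submodule_span_eq] at hgen
    exact hgen
  rw [← Set.image_singleton, ← Ideal.map_span,
    IsLocalization.algebraMap_mem_map_algebraMap_iff p.primeCompl] at h5
  obtain ⟨s, hsp, hsy⟩ := h5
  exact ⟨s, hsp, Ideal.mem_span_singleton.1 hsy⟩

theorem exists_reduced [IsDomain R] [IsNoetherianRing R] [IsLocalRing R] [IsIntegrallyClosed R]
    (hdim : ringKrullDim R = 2) (P : Finset (Ideal R)) (hP : ∀ p ∈ P, p.IsPrime ∧ p.height = 1) :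
    ∃ f : R, f ≠ 0 ∧ (∀ p ∈ P, f ∈ p) ∧ IsReduced (R ⧸ Ideal.span {f}) := by
  classical
  let m := maximalIdeal R
  have hm2 : m.height = 2 := by
    have := IsLocalRing.maximalIdeal_height_eq_ringKrullDim (R := R)
    rw [hdim] at this
    show (maximalIdeal R).height = 2
    exact WithBot.coe_inj.1 (this.trans (rfl : (2 : WithBot ℕ∞) = ((2 : ℕ∞) : WithBot ℕ∞)))
  have hcase : ∀ q : Ideal R, q.IsPrime → q ≠ ⊥ → q ≠ m → q.height = 1 := by
    intro q hq h0 hqm
    have hlt : q < m := lt_of_le_of_ne (IsLocalRing.le_maximalIdeal hq.ne_top) hqm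
    have h1 := Ideal.height_strict_mono_of_isPrime hlt
    rw [hm2] at h1
    have h2 : q.height ≠ 0 := fun h => h0 (by
      rw [Ideal.height_eq_zero_iff, IsDomain.minimalPrimes_eq_singleton_bot] at h
      exact h)
    generalize q.height = e at h1 h2
    cases e with
    | top => exact absurd h1 (by simp)
    | coe e =>
      have h1' : e < 2 := by exact_mod_cast h1
      have h2' : e ≠ 0 := by exact_mod_cast h2
      exact_mod_cast (show e = 1 by omega)
  have hPne : ∀ p ∈ P, p ≠ ⊥ := fun p hp h => by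
    have := (hP p hp).2
    rw [h, Ideal.height_bot] at this
    exact zero_ne_one this
  -- `g`
  obtain ⟨g, hgP, hgm, hg0⟩ : ∃ g : R, (∀ p ∈ P, g ∈ p) ∧ g ∈ m ∧ g ≠ 0 := by
    have hmne : m ≠ ⊥ := fun h => by rw [h, Ideal.height_bot] at hm2; exact absurd hm2 (by simp)
    obtain ⟨g0, hg0, hg0'⟩ := m.ne_bot_iff.1 hmne
    choose! a ha ha0 using fun (p : Ideal R) (hp : p ∈ P) => (Submodule.ne_bot_iff p).1 (hPne p hp)
    refine ⟨g0 * ∏ p ∈ P, a p, fun p hp => Ideal.mul_mem_left _ _ ?_, Ideal.mul_mem_right _ _ hg0,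
      mul_ne_zero hg0' (Finset.prod_ne_zero_iff.2 ha0)⟩
    exact p.mem_of_dvd (Finset.dvd_prod_of_mem a hp) (ha p hp)
  -- `x`
  have hmin : ∀ q ∈ (Ideal.span {g}).minimalPrimes, q ≠ m := fun q hq e => by
    have := Ideal.height_le_one_of_isPrincipal_of_mem_minimalPrimes (Ideal.span {g}) q hq
    rw [e, hm2] at this
    exact absurd this (by simp)
  obtain ⟨x, hxm, hx⟩ : ∃ x ∈ m, ∀ q ∈ (Ideal.span {g}).minimalPrimes, x ∉ q := by
    by_contra hno
    push Not at hno
    have hsub : (m : Set R) ⊆ ⋃ q ∈ ((Ideal.finite_minimalPrimes_of_isNoetherianRing R (Ideal.span {g})).toFinset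
        : Set (Ideal R)), (q : Set R) := fun x hx => by
      obtain ⟨q, hq, hxq⟩ := hno x hx
      exact Set.mem_biUnion ((Set.Finite.mem_toFinset _).2 hq) hxq
    obtain ⟨q, hq, hmq⟩ := (Ideal.subset_union_prime (f := id) ⊤ ⊤ fun q hq _ _ =>
      ((Set.Finite.mem_toFinset _).1 hq).1.1).1 hsub
    have hq' := (Set.Finite.mem_toFinset _).1 hq
    exact hmin q hq' ((maximalIdeal.isMaximal R).eq_of_le hq'.1.1.ne_top hmq).symm
  have hclaim : ∀ q : Ideal R, q.IsPrime → g ∈ q → x ∈ q → q = m := by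
    intro q hq hgq hxq
    by_contra hqm
    obtain ⟨p, hp, hpq⟩ := Ideal.exists_minimalPrimes_le ((Ideal.span_singleton_le_iff_mem (I := q)).2 hgq)
    haveI := hp.1.1
    haveI := hq
    have hgp : g ∈ p := hp.1.2 (Ideal.mem_span_singleton_self g)
    have h1 : p.height = 1 := hcase p hp.1.1 (fun h => hg0 (by simpa [h] using hgp)) (hmin p hp)
    have h2 : q.height = 1 := hcase q hq (fun h => hg0 (by simpa [h] using hgq)) hqm
    exact hx p hp ((eq_of_le_of_height_one h1 h2 hpq).symm ▸ hxq)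
  have hne : ∀ u : R, g + x * u ≠ 0 := by
    intro u hu
    have hxt : Ideal.span {x} ≠ ⊤ := fun h => (maximalIdeal.isMaximal R).ne_top
      (top_le_iff.1 (h.symm.le.trans ((Ideal.span_singleton_le_iff_mem _).2 hxm)))
    obtain ⟨q, hq⟩ := Ideal.nonempty_minimalPrimes hxt
    have hxq : x ∈ q := hq.1.2 (Ideal.mem_span_singleton_self x)
    have hgq : g ∈ q := by
      have : g = -(x * u) := eq_neg_of_add_eq_zero_left hu
      rw [this]
      exact q.neg_mem (q.mul_mem_right _ hxq)
    have := Ideal.height_le_one_of_isPrincipal_of_mem_minimalPrimes (Ideal.span {x}) q hq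
    rw [hclaim q hq.1.1 hgq hxq, hm2] at this
    exact absurd this (by simp)
  -- the Artinian ring
  let G : Ideal R := Ideal.span {g, x}
  have hgG : g ∈ G := Ideal.subset_span (Set.mem_insert _ _)
  have hxG : x ∈ G := Ideal.subset_span (Set.mem_insert_of_mem _ rfl)
  haveI : IsArtinianRing (R ⧸ G) := by
    rw [isArtinianRing_iff_isNoetherianRing_krullDimLE_zero]
    refine ⟨inferInstance, Ring.krullDimLE_zero_iff.2 fun Q hQ => ?_⟩
    haveI := hQ
    have h1 : Q.comap (Ideal.Quotient.mk G) = m := hclaim _ inferInstance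
      (by rw [Ideal.mem_comap, Ideal.Quotient.eq_zero_iff_mem.2 hgG]; exact Q.zero_mem)
      (by rw [Ideal.mem_comap, Ideal.Quotient.eq_zero_iff_mem.2 hxG]; exact Q.zero_mem)
    rw [← Ideal.map_comap_of_surjective _ Ideal.Quotient.mk_surjective Q, h1]
    exact Ideal.IsMaximal.map_of_surjective_of_ker_le Ideal.Quotient.mk_surjective (by
      rw [Ideal.mk_ker]
      exact Ideal.span_le.2 (Set.insert_subset hgm (Set.singleton_subset_iff.2 hxm)))
  -- states
  let Ok : Finset (Ideal R) → R → Prop := fun S f => (∃ u, f = g + x * u) ∧ (∀ p ∈ P, f ∈ p) ∧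
    ∀ q ∈ S, q.IsPrime ∧ q.height = 1 ∧ f ∈ q ∧ Simp q f
  let Φ : Finset (Ideal R) → Ideal (R ⧸ G) := fun S => (S.inf id).map (Ideal.Quotient.mk G)
  let T : Set (Ideal (R ⧸ G)) := {K | ∃ S f, Ok S f ∧ Φ S = K}
  have hT : T.Nonempty := ⟨Φ ∅, ∅, g, ⟨⟨0, by ring⟩, hgP, fun q hq => absurd hq (Finset.notMem_empty q)⟩, rfl⟩
  obtain ⟨K, ⟨S, f, ⟨⟨u, hu⟩, hfP, hS⟩, hK⟩, hKmin⟩ := wellFounded_lt.has_min T hT
  have hf0 : f ≠ 0 := hu ▸ hne u
  refine ⟨f, hf0, hfP, ?_⟩
  suffices hsimp : ∀ q : Ideal R, q.IsPrime → q.height = 1 → f ∈ q → Simp q f by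
    refine ⟨fun z ⟨n, hn⟩ => ?_⟩
    obtain ⟨y, rfl⟩ := Ideal.Quotient.mk_surjective z
    rw [← map_pow, Ideal.Quotient.eq_zero_iff_mem, Ideal.mem_span_singleton] at hn
    exact Ideal.Quotient.eq_zero_iff_mem.2 (Ideal.mem_span_singleton.2 (dvd_of_simp hf0 hsimp n y hn))
  intro q hq hq1 hfq
  by_contra hbad
  haveI := hq
  have hqS : q ∉ S := fun h => hbad (hS q h).2.2.2
  have hxq : ∀ p : Ideal R, p.IsPrime → p.height = 1 → f ∈ p → x ∉ p := by
    intro p hp hp1 hfp hxp
    have hgp : g ∈ p := by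
      have : g = f - x * u := by rw [hu]; ring
      rw [this]
      exact p.sub_mem hfp (p.mul_mem_right _ hxp)
    rw [hclaim p hp hgp hxp, hm2] at hp1
    exact absurd hp1 (by simp)
  obtain ⟨π, hπq, hπ⟩ := exists_simp q (fun h => hf0 (by simpa [h] using hfq))
  let U : Finset (Ideal R) := (S ∪ P).erase q
  have hUh : ∀ p ∈ U, p.IsPrime ∧ p.height = 1 := fun p hp => by
    rcases Finset.mem_union.1 (Finset.mem_of_mem_erase hp) with h | h
    · exact ⟨(hS p h).1, (hS p h).2.1⟩
    · exact hP p h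
  have hex : ∀ p ∈ U, ∃ a ∈ p, a ∉ q := fun p hp => by
    haveI := (hUh p hp).1
    exact SetLike.not_le_iff_exists.1 fun hle =>
      Finset.ne_of_mem_erase hp (eq_of_le_of_height_one (hUh p hp).2 hq1 hle)
  choose! a ha haq using hex
  let c := ∏ p ∈ U, a p ^ 2
  have hc : ∀ p ∈ U, c ∈ p ^ 2 := fun p hp =>
    (p ^ 2).mem_of_dvd (Finset.dvd_prod_of_mem (fun p => a p ^ 2) hp) (Ideal.pow_mem_pow (ha p hp) 2)
  have hcq : c ∉ q := fun h => by
    obtain ⟨p, hp, hpq⟩ := (Ideal.IsPrime.prod_mem_iff).1 h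
    exact haq p hp (hq.mem_of_pow_mem 2 hpq)
  let f' := f + x * (π * c)
  have hfq' : Simp q f' := by
    intro s hs hsf
    apply hbad
    intro t ht htf
    refine hπ (s * t * (x * c)) (hq.mul_notMem (hq.mul_notMem hs ht) (hq.mul_notMem (hxq q hq hq1 hfq) hcq)) ?_
    have : s * t * (x * c) * π = t * (s * f') - s * (t * f) := by simp only [f']; ring
    rw [this]
    exact (q ^ 2).sub_mem ((q ^ 2).mul_mem_left _ hsf) ((q ^ 2).mul_mem_left _ htf)
  have hok : Ok (insert q S) f' := by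
    refine ⟨⟨u + π * c, by simp only [f', hu]; ring⟩, fun p hp => ?_, fun p hp => ?_⟩
    · refine p.add_mem (hfP p hp) (p.mul_mem_left _ ?_)
      by_cases hpq : p = q
      · exact hpq ▸ Ideal.mul_mem_right _ _ hπq
      · exact p.mul_mem_left _ (Ideal.pow_le_self two_ne_zero (hc p (Finset.mem_erase.2 ⟨hpq, Finset.mem_union_right _ hp⟩)))
    · rcases Finset.mem_insert.1 hp with rfl | hp
      · exact ⟨hq, hq1, p.add_mem hfq (p.mul_mem_left _ (p.mul_mem_right _ hπq)), hfq'⟩
      · obtain ⟨hp', hp1, hfp, hsp⟩ := hS p hp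
        have hcp : c ∈ p ^ 2 := hc p (Finset.mem_erase.2 ⟨fun e => hqS (e ▸ hp), Finset.mem_union_left _ hp⟩)
        refine ⟨hp', hp1, p.add_mem hfp (p.mul_mem_left _ (p.mul_mem_left _ (Ideal.pow_le_self two_ne_zero hcp))), ?_⟩
        intro s hs hsf
        refine hsp s hs ?_
        have : s * f = s * f' - s * (x * (π * c)) := by simp only [f']; ring
        rw [this]
        exact (p ^ 2).sub_mem hsf ((p ^ 2).mul_mem_left _ ((p ^ 2).mul_mem_left _ ((p ^ 2).mul_mem_left _ hcp)))
  -- strict decrease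
  let J : Ideal R := S.inf id
  let J' : Ideal R := (insert q S).inf id
  have hJ'J : J' ≤ J := Finset.inf_mono (Finset.subset_insert q S)
  have hfJ : f ∈ J := by
    rw [Submodule.mem_finsetInf]
    exact fun p hp => (hS p hp).2.2.1
  have hf'J' : f' ∈ J' := by
    rw [Submodule.mem_finsetInf]
    exact fun p hp => (hok.2.2 p hp).2.2.1
  refine hKmin (Φ (insert q S)) ⟨insert q S, f', hok, rfl⟩ ?_
  rw [← hK]
  refine lt_of_le_of_ne (Ideal.map_mono hJ'J) fun he => ?_
  have he' := congrArg (Ideal.comap (Ideal.Quotient.mk G)) he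
  rw [Ideal.comap_map_of_surjective' _ Ideal.Quotient.mk_surjective,
    Ideal.comap_map_of_surjective' _ Ideal.Quotient.mk_surjective, Ideal.mk_ker] at he'
  have hGle : G ≤ J' ⊔ Ideal.span {x} := by
    rw [Ideal.span_le, Set.insert_subset_iff, Set.singleton_subset_iff]
    refine ⟨?_, Ideal.mem_sup_right (Ideal.mem_span_singleton_self x)⟩
    have : g = f' - x * (u + π * c) := by simp only [f', hu]; ring
    rw [this]
    exact sub_mem (Ideal.mem_sup_left hf'J')
      (Ideal.mem_sup_right (Ideal.mul_mem_right _ _ (Ideal.mem_span_singleton_self x)))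
  have hle : J ≤ J' ⊔ Ideal.span {x} • J := by
    intro z hz
    have h1 : z ∈ J' ⊔ Ideal.span {x} :=
      (sup_le le_sup_left hGle) (he'.symm ▸ (Ideal.mem_sup_left hz : z ∈ S.inf id ⊔ G))
    obtain ⟨b, hb, d, hd, rfl⟩ := Submodule.mem_sup.1 h1
    obtain ⟨k, rfl⟩ := Ideal.mem_span_singleton.1 hd
    refine add_mem (Submodule.mem_sup_left hb) (Submodule.mem_sup_right ?_)
    refine Submodule.smul_mem_smul (Ideal.mem_span_singleton_self x) ?_
    rw [Submodule.mem_finsetInf]
    intro p hp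
    obtain ⟨hp', hp1, hfp, -⟩ := hS p hp
    have h2 : x * k ∈ p := by
      have := Submodule.mem_finsetInf.1 hz p hp
      exact ((p.add_mem_iff_right (Submodule.mem_finsetInf.1 (hJ'J hb) p hp)).1 this)
    exact (hp'.mem_or_mem h2).resolve_left (hxq p hp' hp1 hfp)
  have hJJ' : J ≤ J' := Submodule.le_of_le_smul_of_le_jacobson_bot (IsNoetherian.noetherian J)
    (((Ideal.span_singleton_le_iff_mem _).2 hxm).trans (IsLocalRing.maximalIdeal_le_jacobson _)) hle
  have hJq : J ≤ q := hJJ'.trans (Finset.inf_le (Finset.mem_insert_self q S))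
  obtain ⟨p, hp, hpq⟩ := (Ideal.IsPrime.inf_le' hq).1 hJq
  haveI := (hS p hp).1
  exact hqS (eq_of_le_of_height_one (hS p hp).2.1 hq1 hpq ▸ hp)

end Groth.Agent.ReducedHyp
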