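import Groth.Agent.HilbSam.Main
import Mathlib

/-!
A bound for the number of top-dimensional components of `R / J` by the length of a parameter quotient.
-/

set_option autoImplicit false
set_option linter.all false
set_option maxHeartbeats 1000000

universe u

open Filter Polynomial
open scoped Polynomial

namespace Groth.Agent.ReducedHyp

open Groth.Agent.HilbSam

theorem length_le_add {R : Type u} [CommRing R] {A B C : Type u} [AddCommGroup A] [Module R A] [AddCommGroup B]
    [Module R B] [AddCommGroup C] [Module R C] (a : A →ₗ[R] B) (b : B →ₗ[R] C)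
    (h : LinearMap.ker b ≤ LinearMap.range a) : Module.length R B ≤ Module.length R A + Module.length R C := by
  rw [Module.length_eq_add_of_exact (LinearMap.ker b).subtype b.rangeRestrict Subtype.val_injective
    b.surjective_rangeRestrict (LinearMap.exact_iff.2 (by rw [LinearMap.ker_rangeRestrict, Submodule.range_subtype]))]
  refine add_le_add ?_ (Module.length_le_of_injective _ (LinearMap.range b).injective_subtype)
  exact (Module.length_le_of_injective (Submodule.inclusion h) (Submodule.inclusion_injective h)).trans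
    (Module.length_le_of_surjective a.rangeRestrict a.surjective_rangeRestrict)

variable {R : Type u} [CommRing R]

theorem sup_pow_le (a b : Ideal R) : ∀ m, (a ⊔ b) ^ m ≤ a ⊔ b ^ m := by
  intro m
  induction m with
  | zero => simp
  | succ m ih =>
    rw [pow_succ, pow_succ]
    refine (Ideal.mul_mono_left ih).trans ?_
    rw [Ideal.sup_mul, Ideal.mul_sup, Ideal.mul_sup]
    exact sup_le (sup_le (Ideal.mul_le_left.trans le_sup_left) (Ideal.mul_le_left.trans le_sup_left) |>.trans le_rfl)
      (sup_le (Ideal.mul_le_right.trans le_sup_left) le_sup_right)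

theorem length_quot_pow_le : ∀ (xs : List R) (J : Ideal R) (L : ℕ),
    Module.length R (R ⧸ (J ⊔ Ideal.ofList xs)) ≤ (L : ℕ∞) →
    ∀ n : ℕ, Module.length R (R ⧸ (J ⊔ Ideal.ofList xs ^ n)) ≤ ((L * n ^ xs.length : ℕ) : ℕ∞) := by
  intro xs
  induction xs with
  | nil =>
    intro J L hL n
    rcases n with _ | n
    · haveI : Subsingleton (R ⧸ (J ⊔ Ideal.ofList ([] : List R) ^ 0)) :=
        Ideal.Quotient.subsingleton_iff.2 (by rw [pow_zero, Ideal.one_eq_top, sup_top_eq])
      rw [Module.length_eq_zero]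
      exact bot_le
    · rw [List.length_nil, pow_zero, mul_one]
      refine (Module.length_le_of_surjective _ (Submodule.factor_surjective (le_of_eq ?_))).trans hL
      rw [Ideal.ofList_nil, ← Ideal.zero_eq_bot, zero_pow n.succ_ne_zero]
  | cons x xs ih =>
    intro J L hL n
    set I := Ideal.ofList (x :: xs)
    have hI : I = Ideal.span {x} ⊔ Ideal.ofList xs := Ideal.ofList_cons x xs
    have hx : x ∈ I := by rw [hI]; exact Ideal.mem_sup_left (Ideal.mem_span_singleton_self x)
    induction n with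
    | zero =>
      haveI : Subsingleton (R ⧸ (J ⊔ I ^ 0)) :=
        Ideal.Quotient.subsingleton_iff.2 (by rw [pow_zero, Ideal.one_eq_top, sup_top_eq])
      rw [Module.length_eq_zero]
      exact bot_le
    | succ n hn =>
      have hC := ih (J ⊔ Ideal.span {x}) L (by rwa [sup_assoc, ← hI]) (n + 1)
      have hle : J ⊔ I ^ (n + 1) ≤ J ⊔ Ideal.span {x} ⊔ Ideal.ofList xs ^ (n + 1) := by
        refine sup_le (le_sup_left.trans le_sup_left) ?_
        rw [hI]
        exact (sup_pow_le _ _ (n + 1)).trans (sup_le (le_sup_right.trans le_sup_left) le_sup_right)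
      have hmul : J ⊔ I ^ n ≤ Submodule.comap (LinearMap.mulLeft R x) (J ⊔ I ^ (n + 1)) := by
        refine sup_le (fun r hr => Ideal.mem_sup_left (J.mul_mem_left x hr)) fun r hr => ?_
        refine Ideal.mem_sup_right ?_
        rw [pow_succ']
        exact Ideal.mul_mem_mul hx hr
      refine (length_le_add (Submodule.mapQ _ _ (LinearMap.mulLeft R x) hmul) (Submodule.factor hle) ?_).trans
        ((add_le_add hn hC).trans ?_)
      · intro y hy
        obtain ⟨r, rfl⟩ := Submodule.Quotient.mk_surjective _ y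
        rw [LinearMap.mem_ker] at hy
        have hr : r ∈ J ⊔ Ideal.span {x} ⊔ Ideal.ofList xs ^ (n + 1) := (Submodule.Quotient.mk_eq_zero _).1 hy
        obtain ⟨y₁, hy₁, i, hi, rfl⟩ := Submodule.mem_sup.1 hr
        obtain ⟨j, hj, y₂, hy₂, rfl⟩ := Submodule.mem_sup.1 hy₁
        obtain ⟨s, rfl⟩ := Ideal.mem_span_singleton'.1 hy₂
        refine ⟨Submodule.Quotient.mk s, ?_⟩
        rw [Submodule.mapQ_apply, Submodule.Quotient.eq, LinearMap.mulLeft_apply]
        have : x * s - (j + s * x + i) = -(j + i) := by ring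
        rw [this]
        refine neg_mem (Submodule.add_mem_sup hj (Ideal.pow_right_mono ?_ _ hi))
        rw [hI]; exact le_sup_right
      · rw [← Nat.cast_add]
        refine Nat.cast_le.2 ?_
        rw [List.length_cons, pow_succ (n + 1), pow_succ n, ← mul_add]
        refine Nat.mul_le_mul_left L ?_
        have := Nat.mul_le_mul_right n (Nat.pow_le_pow_left (Nat.le_add_right n 1) xs.length)
        rw [mul_add, mul_one]
        omega

theorem coeff_nonneg_of_eventually {Q : ℚ[X]} {k : ℕ} (hk : Q.natDegree ≤ k)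
    (h : ∀ᶠ n : ℕ in atTop, 0 ≤ Q.eval (n : ℚ)) : 0 ≤ Q.coeff k := by
  rcases hk.lt_or_eq with hk | rfl
  · rw [coeff_eq_zero_of_natDegree_lt hk]
  by_contra hc
  push Not at hc
  rcases Nat.eq_zero_or_pos Q.natDegree with h0 | h0
  · obtain ⟨n, hn⟩ := h.exists
    rw [Polynomial.eq_C_of_natDegree_eq_zero h0, eval_C] at hn
    rw [h0] at hc
    linarith
  have ht := (Polynomial.tendsto_atBot_of_leadingCoeff_nonpos Q (natDegree_pos_iff_degree_pos.1 h0) hc.le).comp
    tendsto_natCast_atTop_atTop
  obtain ⟨n, hn, hn'⟩ := ((ht.eventually (eventually_lt_atBot (0 : ℚ))).and h).exists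
  simp only [Function.comp_apply] at hn
  linarith

theorem factorial_mul_coeff_ge_one {P : ℚ[X]} (hP0 : P ≠ 0) {f : ℕ → ℕ}
    (h : ∀ᶠ n : ℕ in atTop, (f n : ℚ) = P.eval (n : ℚ)) :
    1 ≤ (P.natDegree.factorial : ℚ) * P.coeff P.natDegree := by
  have hpos : 0 < P.coeff P.natDegree :=
    lt_of_le_of_ne (coeff_nonneg_of_eventually le_rfl (h.mono fun n hn => hn ▸ Nat.cast_nonneg _))
      (Ne.symm (leadingCoeff_ne_zero.2 hP0))
  obtain ⟨N, hN⟩ := eventually_atTop.1 h
  have h1 := congrFun (Polynomial.fwdDiff_iter_degree_eq_factorial P) (N : ℚ)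
  rw [fwdDiff_iter_eq_sum_shift] at h1
  obtain ⟨z, hz⟩ : ∃ z : ℤ, (z : ℚ) = (P.natDegree.factorial : ℚ) * P.coeff P.natDegree := by
    refine ⟨∑ i ∈ Finset.range (P.natDegree + 1),
      (-1) ^ (P.natDegree - i) * (P.natDegree.choose i : ℤ) * (f (N + i) : ℤ), ?_⟩
    simp only [Pi.smul_apply, smul_eq_mul, Pi.natCast_apply, leadingCoeff] at h1
    rw [mul_comm] at h1
    push_cast
    refine Eq.trans (Finset.sum_congr rfl fun i _ => ?_) (h1.trans (by ring))
    rw [hN (N + i) (Nat.le_add_right N i)]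
    simp [zsmul_eq_mul]
  have hzpos : (0 : ℚ) < z := hz ▸ mul_pos (by exact_mod_cast Nat.factorial_pos _) hpos
  rw [← hz]
  exact_mod_cast Int.cast_pos.1 hzpos

variable [IsLocalRing R] [IsNoetherianRing R]

theorem card_le_of_length_le (J : Ideal R) (xs : List R) (hxs : ∀ x ∈ xs, x ∈ IsLocalRing.maximalIdeal R) (L k : ℕ)
    (hk : xs.length ≤ k) (hL : Module.length R (R ⧸ (J ⊔ Ideal.ofList xs)) ≤ (L : ℕ∞)) (C : Finset (Ideal R))
    (hC : ∀ q ∈ C, q.IsPrime ∧ J ≤ q ∧ ringKrullDim (R ⧸ q) = k)
    (hanti : ∀ q ∈ C, ∀ q' ∈ C, q ≤ q' → q = q') : C.card ≤ L * k.factorial := by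
  classical
  haveI : Finite (MaximalSpectrum R) :=
    Finite.of_injective (fun _ => ()) fun a b _ => MaximalSpectrum.ext
      ((IsLocalRing.eq_maximalIdeal a.isMaximal).trans (IsLocalRing.eq_maximalIdeal b.isMaximal).symm)
  set r := Ring.jacobson R with hr
  have hmax : ∀ (M : Type u) [AddCommGroup M] [Module R M], ∀ P : Ideal R, P.IsPrime → r ≤ P →
      Module.annihilator R M ≤ P → P.IsMaximal := fun M _ _ P hP h _ => prime_avoid h
  have hpoly : ∀ (M : Type u) [AddCommGroup M] [Module R M] [Module.Finite R M] [Nontrivial M],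
      ∃ P : ℚ[X], (∀ᶠ n : ℕ in atTop, ((hs r M n).toNat : ℚ) = P.eval (n : ℚ)) ∧
        (P.natDegree : WithBot ℕ∞) = Module.supportDim R M := fun M _ _ _ _ => by
    obtain ⟨P, ⟨N, hN⟩, hP⟩ := main (A := R) (M := M)
    refine ⟨P, eventually_atTop.2 ⟨N, fun n hn => ?_⟩, hP⟩
    obtain ⟨ℓ, hℓ, hℓP⟩ := hN n hn
    rw [show hs r M n = ℓ from hℓ, ENat.toNat_natCast, hℓP]
  haveI : ∀ q : C, q.1.IsPrime := fun q => (hC q.1 q.2).1
  choose P hP hPd using fun q : C => hpoly (R ⧸ q.1)
  have hPdeg : ∀ q, (P q).natDegree = k := fun q => by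
    have h := hPd q
    rw [Module.supportDim_quotient_eq_ringKrullDim, (hC q.1 q.2).2.2] at h
    exact_mod_cast h
  have hP0 : ∀ q, P q ≠ 0 := fun q h0 => by
    obtain ⟨n, hn, hn1⟩ := ((hP q).and (eventually_ge_atTop 1)).exists
    rw [h0, eval_zero, Nat.cast_eq_zero, ENat.toNat_eq_zero] at hn
    rcases hn with hn | hn
    · rw [hs, Module.length_eq_zero_iff] at hn
      have htop : r ^ n • (⊤ : Submodule R (R ⧸ q.1)) = ⊤ := Submodule.Quotient.subsingleton_iff.1 hn
      have hle : (⊤ : Submodule R (R ⧸ q.1)) ≤ r • ⊤ := htop.ge.trans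
        (Submodule.smul_mono_left (Ideal.pow_le_self (by omega)))
      exact top_ne_bot (Submodule.eq_bot_of_le_smul_of_le_jacobson_bot r ⊤ Module.Finite.fg_top hle
        (by rw [hr, IsLocalRing.ringJacobson_eq_maximalIdeal]; exact IsLocalRing.maximalIdeal_le_jacobson _))
    · exact hs_ne_top (hmax (R ⧸ q.1)) n hn
  have hlc : ∀ q, 1 ≤ (k.factorial : ℚ) * (P q).coeff k := fun q => by
    simpa only [hPdeg q] using factorial_mul_coeff_ge_one (hP0 q) (hP q)
  -- the map to the product
  let φ : (R ⧸ J) →ₗ[R] ((q : C) → R ⧸ q.1) :=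
    Submodule.liftQ J (LinearMap.pi fun q : C => Submodule.mkQ q.1) fun a ha => by
      rw [LinearMap.mem_ker]
      ext q
      exact (Submodule.Quotient.mk_eq_zero _).2 ((hC q.1 q.2).2.1 ha)
  obtain ⟨PC, hPC, hPCd, hPCn⟩ : ∃ PC : ℚ[X],
      (∀ᶠ n : ℕ in atTop, ((hs r (((q : C) → R ⧸ q.1) ⧸ LinearMap.range φ) n).toNat : ℚ) = PC.eval (n : ℚ)) ∧
        PC.coeff k = 0 ∧ PC.natDegree ≤ k := by
    rcases subsingleton_or_nontrivial (((q : C) → R ⧸ q.1) ⧸ LinearMap.range φ) with hs' | hnt
    · refine ⟨0, Eventually.of_forall fun n => ?_, coeff_zero k, by simp⟩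
      haveI : Subsingleton ((((q : C) → R ⧸ q.1) ⧸ LinearMap.range φ) ⧸
          (r ^ n • ⊤ : Submodule R (((q : C) → R ⧸ q.1) ⧸ LinearMap.range φ))) :=
        Quotient.instSubsingletonQuotient _
      rw [hs, Module.length_eq_zero]
      simp
    obtain ⟨PC, hPC, hPCd⟩ := hpoly (((q : C) → R ⧸ q.1) ⧸ LinearMap.range φ)
    suffices hlt : PC.natDegree < k from ⟨PC, hPC, coeff_eq_zero_of_natDegree_lt hlt, hlt.le⟩
    set Cok := ((q : C) → R ⧸ q.1) ⧸ LinearMap.range φ
    obtain ⟨s, hs⟩ : ∃ s : LTSeries (Module.support R Cok), s.length = PC.natDegree :=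
      Order.le_krullDim_iff.1 (hPCd.le : ((PC.natDegree : ℕ) : WithBot ℕ∞) ≤ Order.krullDim (Module.support R Cok))
    have hP₀ : Module.annihilator R Cok ≤ (s.head : PrimeSpectrum R).asIdeal := by
      have := s.head.2
      rw [Module.mem_support_iff_of_finite] at this
      exact this
    have hann : (∏ q : C, q.1) ≤ Module.annihilator R Cok := by
      intro a ha
      rw [Module.mem_annihilator]
      intro y
      obtain ⟨t, rfl⟩ := Submodule.Quotient.mk_surjective _ y
      rw [← Submodule.Quotient.mk_smul, Submodule.Quotient.mk_eq_zero,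
        show a • t = 0 from funext fun q => by
          obtain ⟨b, hb⟩ := Submodule.Quotient.mk_surjective _ (t q)
          rw [Pi.smul_apply, Pi.zero_apply, ← hb, ← Submodule.Quotient.mk_smul, Submodule.Quotient.mk_eq_zero]
          exact q.1.mul_mem_right b ((Ideal.prod_le_inf.trans (Finset.inf_le (Finset.mem_univ q))) ha)]
      exact zero_mem _
    obtain ⟨j, -, hj⟩ := (Ideal.IsPrime.prod_le (s := Finset.univ) (f := fun q : C => q.1)
      (s.head : PrimeSpectrum R).isPrime).1 (hann.trans hP₀)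
    obtain ⟨a, ha, haj⟩ : ∃ a, (∀ q : C, q ≠ j → a ∈ q.1) ∧ a ∉ j.1 := by
      by_contra hno
      push Not at hno
      obtain ⟨q, hq, hqj⟩ := (Ideal.IsPrime.prod_le (s := Finset.univ.erase j) (f := fun q : C => q.1)
        (hC j.1 j.2).1).1 fun a ha => hno a fun q hq =>
          (Ideal.prod_le_inf.trans (Finset.inf_le (Finset.mem_erase.2 ⟨hq, Finset.mem_univ q⟩))) ha
      exact (Finset.mem_erase.1 hq).1 (Subtype.ext (hanti _ q.2 _ j.2 hqj))
    have haann : a ∈ Module.annihilator R Cok := by
      rw [Module.mem_annihilator]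
      intro y
      obtain ⟨t, rfl⟩ := Submodule.Quotient.mk_surjective _ y
      obtain ⟨b, hb⟩ := Submodule.Quotient.mk_surjective _ (t j)
      rw [← Submodule.Quotient.mk_smul, Submodule.Quotient.mk_eq_zero]
      refine ⟨Submodule.Quotient.mk (a * b), funext fun q => ?_⟩
      show Submodule.Quotient.mk (a * b) = a • t q
      rcases eq_or_ne q j with rfl | hqj
      · rw [← hb, ← Submodule.Quotient.mk_smul, smul_eq_mul]
      · obtain ⟨c, hc⟩ := Submodule.Quotient.mk_surjective _ (t q)
        rw [← hc, ← Submodule.Quotient.mk_smul, Submodule.Quotient.eq, smul_eq_mul, ← mul_sub]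
        exact q.1.mul_mem_right _ (ha q hqj)
    have hlt : (⟨j.1, inferInstance⟩ : PrimeSpectrum R) < s.head := lt_of_le_of_ne hj fun h =>
      haj (by have := hP₀ haann; rw [← h] at this; exact this)
    have hsub : ∀ p : Module.support R Cok, (p : PrimeSpectrum R) ∈ ({p | j.1 ≤ p.asIdeal} : Set (PrimeSpectrum R)) →
        (p : PrimeSpectrum R) ∈ Module.support R (R ⧸ j.1) := fun p hp => by
      rw [Module.mem_support_iff_of_finite, Ideal.annihilator_quotient]
      exact hp
    let t : LTSeries (Module.support R (R ⧸ j.1)) :=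
      { length := s.length
        toFun := fun i => ⟨(s i).1, hsub (s i) (hj.trans (s.monotone (Fin.zero_le i)))⟩
        step := fun i => s.step i }
    have hlen := Order.LTSeries.length_le_krullDim (t.cons ⟨⟨j.1, inferInstance⟩, by
      rw [Module.mem_support_iff_of_finite, Ideal.annihilator_quotient]⟩ hlt)
    erw [RelSeries.cons_length] at hlen
    rw [← Module.supportDim, Module.supportDim_quotient_eq_ringKrullDim,
      (hC j.1 j.2).2.2] at hlen
    have : t.length + 1 ≤ k := by exact_mod_cast hlen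
    have ht : t.length = s.length := rfl
    omega
  let Q : ℚ[X] := Polynomial.C (L : ℚ) * X ^ k + PC - ∑ q, P q
  have hPCdeg : Q.coeff k = (L : ℚ) - ∑ q, (P q).coeff k := by
    simp only [Q, coeff_sub, coeff_add, coeff_C_mul, coeff_X_pow_self, mul_one, hPCd, add_zero, finset_sum_coeff]
  have hQ : 0 ≤ Q.coeff k := by
    rcases eq_or_ne C ∅ with hC0 | hC0
    · subst hC0
      rw [hPCdeg]
      simp
    refine coeff_nonneg_of_eventually ?_ ?_
    · refine (natDegree_sub_le _ _).trans (max_le ((natDegree_add_le _ _).trans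
        (max_le (natDegree_C_mul_X_pow_le _ _) hPCn)) ?_)
      exact natDegree_sum_le_of_forall_le _ _ fun q _ => (hPdeg q).le
    filter_upwards [Filter.eventually_all.2 hP, hPC, eventually_ge_atTop 1] with n hn hnC hn1
    have hT : (∑ q : C, hs r (R ⧸ q.1) n) ≤ hs r (R ⧸ J) n + hs r (((q : C) → R ⧸ q.1) ⧸ LinearMap.range φ) n := by
      refine le_trans ?_ (length_le_add
        (Submodule.mapQ (r ^ n • ⊤) (r ^ n • ⊤) φ (by
          rw [← Submodule.map_le_iff_le_comap, Submodule.map_smul'']
          exact Submodule.smul_mono le_rfl le_top))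
        (Submodule.mapQ (r ^ n • ⊤) (r ^ n • ⊤) (LinearMap.range φ).mkQ (by
          rw [← Submodule.map_le_iff_le_comap, Submodule.map_smul'']
          exact Submodule.smul_mono le_rfl le_top)) ?_)
      · simp only [hs]
        rw [← Module.length_pi_of_fintype]
        refine Module.length_le_of_surjective
          (Submodule.liftQ (r ^ n • ⊤) (LinearMap.pi fun q : C =>
            (r ^ n • ⊤ : Submodule R (R ⧸ q.1)).mkQ ∘ₗ LinearMap.proj q) ?_) ?_
        · rw [Submodule.smul_le]
          intro a ha t _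
          rw [LinearMap.mem_ker, map_smul]
          funext q
          show a • (r ^ n • ⊤ : Submodule R (R ⧸ q.1)).mkQ (t q) = 0
          rw [← map_smul, Submodule.mkQ_apply, Submodule.Quotient.mk_eq_zero]
          exact Submodule.smul_mem_smul ha Submodule.mem_top
        · intro y
          choose t ht using fun q : C => Submodule.Quotient.mk_surjective _ (y q)
          exact ⟨Submodule.Quotient.mk t, funext ht⟩
      · intro y hy
        obtain ⟨t, rfl⟩ := Submodule.Quotient.mk_surjective _ y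
        rw [LinearMap.mem_ker, Submodule.mapQ_apply, Submodule.Quotient.mk_eq_zero] at hy
        rw [show r ^ n • (⊤ : Submodule R (((q : C) → R ⧸ q.1) ⧸ LinearMap.range φ)) =
          Submodule.map (LinearMap.range φ).mkQ (r ^ n • ⊤) by
            rw [Submodule.map_smul'', Submodule.map_top, Submodule.range_mkQ], Submodule.mem_map] at hy
        obtain ⟨t', ht', htt'⟩ := hy
        rw [Submodule.mkQ_apply, Submodule.mkQ_apply, Submodule.Quotient.eq] at htt'
        obtain ⟨b, hb⟩ := htt'
        refine ⟨Submodule.Quotient.mk (-b), ?_⟩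
        rw [Submodule.mapQ_apply, Submodule.Quotient.eq, map_neg, hb, neg_sub, sub_sub_cancel_left]
        exact neg_mem ht'
    have hN : hs r (R ⧸ J) n ≤ ((L * n ^ k : ℕ) : ℕ∞) := by
      refine (hs_mono (show Ideal.ofList xs ≤ r from ?_) n).trans ?_
      · rw [hr, IsLocalRing.ringJacobson_eq_maximalIdeal]
        exact Ideal.span_le.2 hxs
      refine le_trans ?_ ((length_quot_pow_le xs J L hL n).trans
        (Nat.cast_le.2 (Nat.mul_le_mul_left L (Nat.pow_le_pow_right hn1 hk))))
      refine Module.length_le_of_surjective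
        (Submodule.liftQ (J ⊔ Ideal.ofList xs ^ n)
          ((Ideal.ofList xs ^ n • ⊤ : Submodule R (R ⧸ J)).mkQ ∘ₗ Submodule.mkQ J) ?_) ?_
      · refine sup_le (fun a ha => ?_) fun a ha => ?_
        · simp only [LinearMap.mem_ker, LinearMap.comp_apply, Submodule.mkQ_apply,
            (Submodule.Quotient.mk_eq_zero J).2 ha, Submodule.Quotient.mk_zero]
        · rw [LinearMap.mem_ker, LinearMap.comp_apply, Submodule.mkQ_apply, Submodule.mkQ_apply,
            Submodule.Quotient.mk_eq_zero, show (Submodule.Quotient.mk a : R ⧸ J) = a • Submodule.Quotient.mk 1 by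
              rw [← Submodule.Quotient.mk_smul, smul_eq_mul, mul_one]]
          exact Submodule.smul_mem_smul ha Submodule.mem_top
      · intro y
        obtain ⟨z, rfl⟩ := Submodule.Quotient.mk_surjective _ y
        obtain ⟨a, rfl⟩ := Submodule.Quotient.mk_surjective _ z
        exact ⟨Submodule.Quotient.mk a, rfl⟩
    have hfinC : hs r (((q : C) → R ⧸ q.1) ⧸ LinearMap.range φ) n ≠ ⊤ := hs_ne_top (hmax _) n
    have h := ENat.toNat_le_toNat (hT.trans (add_le_add hN le_rfl)) (by rw [ne_eq, ENat.add_eq_top, not_or]; exact ⟨ENat.natCast_ne_top _, hfinC⟩)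
    rw [ENat.toNat_add (ENat.natCast_ne_top _) hfinC, ENat.toNat_natCast,
      ENat.toNat_sum fun q _ => hs_ne_top (hmax (R ⧸ q.1)) n] at h
    simp only [Q, eval_sub, eval_add, eval_mul, eval_C, eval_pow, eval_X, eval_finset_sum, ← hn, ← hnC]
    have h' : (((∑ q : C, (hs r (R ⧸ q.1) n).toNat : ℕ)) : ℚ) ≤ ((L * n ^ k +
      (hs r (((q : C) → R ⧸ q.1) ⧸ LinearMap.range φ) n).toNat : ℕ) : ℚ) := by exact_mod_cast h
    push_cast at h'
    linarith
  have hsum : (C.card : ℚ) ≤ (k.factorial : ℚ) * L := by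
    rw [hPCdeg] at hQ
    calc (C.card : ℚ) = ∑ q : C, (1 : ℚ) := by simp
      _ ≤ ∑ q : C, (k.factorial : ℚ) * (P q).coeff k := Finset.sum_le_sum fun q _ => hlc q
      _ ≤ (k.factorial : ℚ) * L := by
        rw [← Finset.mul_sum]
        exact mul_le_mul_of_nonneg_left (by linarith) (Nat.cast_nonneg _)
  rw [mul_comm]
  exact_mod_cast hsum

end Groth.Agent.ReducedHyp
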