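import Groth.Agent.ReducedHyp.Bound
import Groth.Agent.InvGen.NormalDvd
import Groth.Agent.Catenary.Ring
import Groth.Agent.S7125
import Mathlib

/-!
Every nonzero radical ideal of a catenary normal local domain contains `f ≠ 0` with `R / f` reduced.
-/

set_option autoImplicit false
set_option linter.all false
set_option maxHeartbeats 1000000

universe u

open IsLocalRing

namespace Groth.Agent.ReducedHyp

variable {R : Type u} [CommRing R] [IsDomain R] [IsNoetherianRing R] [IsIntegrallyClosed R]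

theorem height_pos {P : Ideal R} (hP : P.IsPrime) (h0 : P ≠ ⊥) : 0 < P.height := by
  haveI := hP
  exact bot_le.trans_lt (Ideal.height_strict_mono_of_isPrime_of_isPrime (I := (⊥ : Ideal R)) (bot_lt_iff_ne_bot.2 h0))

theorem span_eq_max (q : Ideal R) [q.IsPrime] (hq : q.height = 1) {x : R} (hx : x ∈ q)
    (h2 : algebraMap R (Localization.AtPrime q) x ∉ maximalIdeal (Localization.AtPrime q) ^ 2) :
    Ideal.span {algebraMap R (Localization.AtPrime q) x} = maximalIdeal (Localization.AtPrime q) := by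
  haveI := S7125.dvr_of_height_one q hq
  obtain ⟨π, hπ⟩ := IsDiscreteValuationRing.exists_irreducible (Localization.AtPrime q)
  have hxm := (IsLocalization.AtPrime.to_map_mem_maximal_iff (Localization.AtPrime q) q x).2 hx
  have hne : algebraMap R (Localization.AtPrime q) x ≠ 0 := fun e => h2 (by rw [e]; exact zero_mem _)
  obtain ⟨v, w, hw⟩ := IsDiscreteValuationRing.eq_unit_mul_pow_irreducible hne hπ
  rw [hπ.maximalIdeal_eq] at h2 ⊢
  rcases v with _ | _ | v
  · rw [pow_zero, mul_one] at hw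
    exact absurd hxm (by rw [hw]; exact fun h => h w.isUnit)
  · rw [zero_add, pow_one] at hw
    rw [hw, Ideal.span_singleton_mul_left_unit w.isUnit]
  · exact absurd (by
      rw [hw, Ideal.span_singleton_pow, Ideal.mem_span_singleton]
      exact Dvd.dvd.mul_left (pow_dvd_pow π (by omega)) _) h2

theorem exists_pow_le_span_mul (q : Ideal R) [q.IsPrime] (hq : q.height = 1) {f : R} (hf : f ≠ 0) :
    ∃ M : ℕ, maximalIdeal (Localization.AtPrime q) ^ M ≤
      Ideal.span {algebraMap R (Localization.AtPrime q) f} * maximalIdeal (Localization.AtPrime q) := by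
  haveI := S7125.dvr_of_height_one q hq
  obtain ⟨π, hπ⟩ := IsDiscreteValuationRing.exists_irreducible (Localization.AtPrime q)
  have hne : algebraMap R (Localization.AtPrime q) f ≠ 0 := fun e =>
    hf (IsLocalization.injective _ q.primeCompl_le_nonZeroDivisors (by rw [e, map_zero]))
  obtain ⟨v, w, hw⟩ := IsDiscreteValuationRing.eq_unit_mul_pow_irreducible hne hπ
  refine ⟨v + 1, ?_⟩
  rw [hw, Ideal.span_singleton_mul_left_unit w.isUnit, hπ.maximalIdeal_eq, Ideal.span_singleton_pow,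
    Ideal.span_singleton_mul_span_singleton, pow_succ]

theorem exists_mem_notMem_sq {J : Ideal R} (hJ : J.IsRadical) (hJ0 : J ≠ ⊥) (q : Ideal R) [q.IsPrime]
    (hq : q.height = 1) : ∃ t ∈ J, t ∈ q ∧
      algebraMap R (Localization.AtPrime q) t ∉ maximalIdeal (Localization.AtPrime q) ^ 2 := by
  classical
  haveI := S7125.dvr_of_height_one q hq
  have hnle : ¬ maximalIdeal (Localization.AtPrime q) ≤ maximalIdeal (Localization.AtPrime q) ^ 2 := fun h =>
    IsDiscreteValuationRing.not_a_field (Localization.AtPrime q) (Submodule.eq_bot_of_le_smul_of_le_jacobson_bot _ _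
      (IsNoetherian.noetherian _) (by rwa [pow_two] at h) (maximalIdeal_le_jacobson _))
  obtain ⟨x, hx, hx2⟩ : ∃ x ∈ q, algebraMap R (Localization.AtPrime q) x ∉ maximalIdeal (Localization.AtPrime q) ^ 2 := by
    by_contra hc
    push Not at hc
    refine hnle ?_
    rw [← Localization.AtPrime.map_eq_maximalIdeal]
    refine Ideal.map_le_iff_le_comap.2 fun x hx => ?_
    rw [Ideal.mem_comap, Localization.AtPrime.map_eq_maximalIdeal]
    exact hc x hx
  by_cases hJq : J ≤ q
  swap
  · obtain ⟨s, hsJ, hsq⟩ := SetLike.not_le_iff_exists.1 hJq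
    refine ⟨s * x, J.mul_mem_right x hsJ, q.mul_mem_left s hx, ?_⟩
    rw [map_mul, Ideal.unit_mul_mem_iff_mem _ (IsLocalization.map_units _ (⟨s, hsq⟩ : q.primeCompl))]
    exact hx2
  have hqmin : q ∈ J.minimalPrimes := by
    refine ⟨⟨inferInstance, hJq⟩, fun P ⟨hP, hJP⟩ hPq => ?_⟩
    refine eq_or_lt_of_le hPq |>.elim (fun h => h.ge) fun hlt => ?_
    haveI := hP
    have h1 := height_pos hP fun h => hJ0 (le_bot_iff.1 (h ▸ hJP))
    have h2 : P.height < q.height := Ideal.height_strict_mono_of_isPrime_of_isPrime hlt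
    rw [hq, Order.lt_one_iff] at h2
    exact absurd h2 h1.ne'
  have hfin := J.finite_minimalPrimes_of_isNoetherianRing R
  obtain ⟨s, hs, hsq⟩ : ∃ s, (∀ p ∈ J.minimalPrimes, p ≠ q → s ∈ p) ∧ s ∉ q := by
    by_contra hc
    push Not at hc
    obtain ⟨p, hp, hpq⟩ := (Ideal.IsPrime.prod_le (s := hfin.toFinset.erase q) (f := fun p => p) ‹q.IsPrime›).1
      fun a ha => hc a fun p hp hpq => (Ideal.prod_le_inf.trans
        (Finset.inf_le (Finset.mem_erase.2 ⟨hpq, (Set.Finite.mem_toFinset hfin).2 hp⟩))) ha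
    obtain ⟨hpq', hpJ⟩ := Finset.mem_erase.1 hp
    rw [Set.Finite.mem_toFinset] at hpJ
    exact hpq' (le_antisymm hpq (hqmin.2 hpJ.1 hpq))
  refine ⟨s * x, ?_, q.mul_mem_left s hx, ?_⟩
  · rw [← hJ.radical, ← Ideal.sInf_minimalPrimes, Ideal.mem_sInf]
    intro p hp
    rcases eq_or_ne p q with rfl | hpq
    · exact p.mul_mem_left s hx
    · exact p.mul_mem_right x (hs p hp hpq)
  · rw [map_mul, Ideal.unit_mul_mem_iff_mem _ (IsLocalization.map_units _ (⟨s, hsq⟩ : q.primeCompl))]
    exact hx2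

theorem dvd_of_local {r c : R} (hr : r ≠ 0)
    (h : ∀ (q : Ideal R) [q.IsPrime], q.height = 1 → r ∈ q →
      algebraMap R (Localization.AtPrime q) c ∈ Ideal.span {algebraMap R (Localization.AtPrime q) r}) : r ∣ c := by
  refine InvGen.dvd_of_forall_height_one hr fun p hp hh => ?_
  by_cases hrp : r ∈ p
  swap
  · exact ⟨r, hrp, dvd_mul_right r c⟩
  have h1 := h p hh hrp
  rw [← Set.image_singleton, ← Ideal.map_span, IsLocalization.algebraMap_mem_map_algebraMap_iff p.primeCompl] at h1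
  obtain ⟨m, hm, hmc⟩ := h1
  exact ⟨m, hm, Ideal.mem_span_singleton.1 hmc⟩

theorem isReduced_of_local {f : R} (hf : f ≠ 0)
    (h : ∀ (q : Ideal R) [q.IsPrime], q.height = 1 → f ∈ q →
      Ideal.span {algebraMap R (Localization.AtPrime q) f} = maximalIdeal (Localization.AtPrime q)) :
    IsReduced (R ⧸ Ideal.span {f}) := by
  refine (Ideal.isRadical_iff_quotient_reduced _).1 ?_
  intro a ⟨i, ha⟩
  rw [Ideal.mem_span_singleton] at ha ⊢
  refine dvd_of_local hf fun q _ hq hfq => ?_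
  rw [h q hq hfq, IsLocalization.AtPrime.to_map_mem_maximal_iff (Localization.AtPrime q) q a]
  exact ‹q.IsPrime›.mem_of_pow_mem i (q.mem_of_dvd ha hfq)

theorem exists_deep (I : Ideal R) (N : ℕ) (q : Ideal R) [hqp : q.IsPrime] (hI : ¬ I ≤ q) (S : Finset (Ideal R))
    (hS : ∀ p ∈ S, p.IsPrime ∧ p.height = 1) (hq : q.height = 1) {f : R} (hf : f ≠ 0) :
    ∃ s, s ∈ I ^ N ∧ s ∉ q ∧ ∀ (p : Ideal R) [p.IsPrime], p ∈ S → p ≠ q →
      algebraMap R (Localization.AtPrime p) s ∈
        Ideal.span {algebraMap R (Localization.AtPrime p) f} * maximalIdeal (Localization.AtPrime p) := by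
  classical
  have hM : ∀ p : Ideal R, ∃ M : ℕ, ∀ [p.IsPrime], p.height = 1 → maximalIdeal (Localization.AtPrime p) ^ M ≤
      Ideal.span {algebraMap R (Localization.AtPrime p) f} * maximalIdeal (Localization.AtPrime p) := by
    intro p
    by_cases hp : p.IsPrime ∧ p.height = 1
    · haveI := hp.1
      obtain ⟨M, hM⟩ := exists_pow_le_span_mul p hp.2 hf
      exact ⟨M, fun _ => hM⟩
    · exact ⟨0, fun {hp'} h => absurd ⟨hp', h⟩ hp⟩
  choose M hM using hM
  obtain ⟨s, hsI, hsS, hsq⟩ : ∃ s, s ∈ I ^ N ∧ s ∈ (∏ p ∈ S.erase q, p ^ M p) ∧ s ∉ q := by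
    by_contra hc
    push Not at hc
    have hle : I ^ N * ∏ p ∈ S.erase q, p ^ M p ≤ q := fun a ha =>
      hc a ((Ideal.mul_le_left : I ^ N * _ ≤ I ^ N) ha) ((Ideal.mul_le_right : _ * (∏ p ∈ S.erase q, p ^ M p) ≤ _) ha)
    rcases hqp.mul_le.1 hle with h | h
    · exact hI (hqp.le_of_pow_le h)
    · obtain ⟨p, hp, hpq⟩ := hqp.prod_le.1 h
      obtain ⟨hne, hp⟩ := Finset.mem_erase.1 hp
      obtain ⟨hpp, hp1⟩ := hS p hp
      haveI := hpp
      rcases (hqp.le_of_pow_le hpq).lt_or_eq with hlt | heq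
      · have h2 := Ideal.height_strict_mono_of_isPrime_of_isPrime hlt
        rw [hp1, hq] at h2
        exact lt_irrefl _ h2
      · exact hne heq
  refine ⟨s, hsI, hsq, fun p _ hp hpq => hM p (hS p hp).2 ?_⟩
  rw [← Localization.AtPrime.map_eq_maximalIdeal, ← Ideal.map_pow]
  exact Ideal.mem_map_of_mem _ ((Ideal.prod_le_inf.trans (Finset.inf_le (f := fun p : Ideal R => p ^ M p) (Finset.mem_erase.2 ⟨hpq, hp⟩))) hsS)

theorem ringKrullDim_quotient_eq [IsLocalRing R] (hc : CAlg.IsCatenary R) (q : Ideal R) [hqp : q.IsPrime]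
    (hq1 : q.height = 1) {k : ℕ} (hd : (maximalIdeal R).height = ((k + 1 : ℕ) : ℕ∞)) :
    ringKrullDim (R ⧸ q) = k := by
  have h := Catenary.height_quotient_add hc q (maximalIdeal R) (le_maximalIdeal hqp.ne_top)
  haveI : IsLocalRing (R ⧸ q) := IsLocalRing.of_surjective' _ Ideal.Quotient.mk_surjective
  have hmap : (maximalIdeal R).map (Ideal.Quotient.mk q) = maximalIdeal (R ⧸ q) := by
    refine IsLocalRing.eq_maximalIdeal ?_
    refine (Ideal.map_eq_top_or_isMaximal_of_surjective _ Ideal.Quotient.mk_surjective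
      (maximalIdeal.isMaximal R)).resolve_left fun htop => ?_
    have := congrArg (Ideal.comap (Ideal.Quotient.mk q)) htop
    rw [Ideal.comap_map_of_surjective' _ Ideal.Quotient.mk_surjective, Ideal.mk_ker,
      sup_eq_left.2 (le_maximalIdeal hqp.ne_top), Ideal.comap_top] at this
    exact (maximalIdeal.isMaximal R).ne_top this
  rw [hmap, hq1, hd] at h
  obtain ⟨v, hv⟩ := ENat.ne_top_iff_exists.1
    (Ideal.height_ne_top (I := maximalIdeal (R ⧸ q)) (maximalIdeal.isMaximal _).ne_top)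
  rw [← maximalIdeal_height_eq_ringKrullDim, ← hv]
  rw [← hv] at h
  have h' : v + 1 = k + 1 := by exact_mod_cast h
  rw [show v = k by omega]
  rfl

set_option maxHeartbeats 800000 in
theorem exists_reduced_quotient [IsLocalRing R] (hc : CAlg.IsCatenary R) {J : Ideal R} (hJ : J.IsRadical)
    (hJ0 : J ≠ ⊥) : ∃ f ∈ J, f ≠ 0 ∧ IsReduced (R ⧸ Ideal.span {f}) := by
  classical
  by_cases hJt : J = ⊤
  · refine ⟨1, by simp [hJt], one_ne_zero, ?_⟩
    haveI : Subsingleton (R ⧸ Ideal.span {(1 : R)}) :=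
      Ideal.Quotient.subsingleton_iff.2 (Ideal.span_singleton_one)
    exact ⟨fun x _ => Subsingleton.elim x 0⟩
  obtain ⟨f₀, hf₀J, hf₀⟩ := Submodule.exists_mem_ne_zero_of_ne_bot hJ0
  set m := maximalIdeal R with hmdef
  have hf₀m : f₀ ∈ m := le_maximalIdeal hJt hf₀J
  obtain ⟨d, hd⟩ := ENat.ne_top_iff_exists.1 (Ideal.height_ne_top (I := m) (maximalIdeal.isMaximal R).ne_top)
  have hdim : ringKrullDim R = d := by
    rw [← maximalIdeal_height_eq_ringKrullDim, ← hd]; rfl
  have hd1 : 1 ≤ d := by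
    by_contra hlt
    have h0 : m.height = 0 := by rw [← hd, show d = 0 by omega]; rfl
    have h1 := height_pos (maximalIdeal.isMaximal R).isPrime fun h : m = ⊥ => hf₀ (by rwa [h] at hf₀m)
    exact h1.ne' h0
  obtain ⟨k, rfl⟩ : ∃ k, d = k + 1 := ⟨d - 1, by omega⟩
  haveI : Finite (MaximalSpectrum R) :=
    Finite.of_injective (fun _ => ()) fun a b _ => MaximalSpectrum.ext
      ((IsLocalRing.eq_maximalIdeal a.isMaximal).trans (IsLocalRing.eq_maximalIdeal b.isMaximal).symm)
  obtain ⟨xs, hlen, hxs, hmax⟩ := HilbSam.exists_params (A := R) k (Ideal.span {f₀}) fun s hs => by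
    have hlt : (⊥ : PrimeSpectrum R) < s.head := bot_lt_iff_ne_bot.2 fun h => hf₀ (by
      have h' := hs (Ideal.mem_span_singleton_self f₀)
      rw [h] at h'
      exact h')
    have h := Order.LTSeries.length_le_krullDim (s.cons ⊥ hlt)
    erw [RelSeries.cons_length] at h
    rw [← ringKrullDim, hdim] at h
    have : s.length + 1 ≤ k + 1 := by exact_mod_cast h
    omega
  have hxsm : ∀ x ∈ xs, x ∈ maximalIdeal R := fun x hx => by
    have := hxs x hx
    rwa [ringJacobson_eq_maximalIdeal] at this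
  set I₀ := Ideal.span {f₀} ⊔ Ideal.ofList xs with hI₀
  have hImax : ∀ P : Ideal R, P.IsPrime → I₀ ≤ P → P.IsMaximal := fun P hP hle =>
    hmax P hP (le_sup_right.trans hle) (le_sup_left.trans hle)
  obtain ⟨L, hL⟩ := ENat.ne_top_iff_exists.1 (HilbSam.length_ne_top_of_ann (A := R) (R ⧸ I₀) I₀
    (Ideal.annihilator_quotient).ge hImax)
  obtain ⟨N₀, hN₀⟩ : ∃ N₀, m ^ N₀ ≤ I₀ := Ideal.exists_pow_le_of_le_radical_of_fg (by
    rw [Ideal.radical_eq_sInf]
    refine le_sInf ?_
    rintro P ⟨hP, hPp⟩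
    exact (IsLocalRing.eq_maximalIdeal (hImax P hPp hP)).ge) (IsNoetherian.noetherian m)
  obtain ⟨N₁, hN₁⟩ : ∃ N₁, f₀ ∉ m ^ N₁ := by
    by_contra h
    push Not at h
    have := Ideal.iInf_pow_eq_bot_of_isLocalRing m (maximalIdeal.isMaximal R).ne_top
    exact hf₀ (by
      have hmem : f₀ ∈ ⨅ i, m ^ i := (Submodule.mem_iInf _).2 h
      rwa [this] at hmem)
  set N := max (N₀ + 1) N₁ with hN
  let F : Set R := {f | f ∈ J ∧ f - f₀ ∈ m ^ N}
  have hFne : ∀ f ∈ F, f ∉ m ^ N := fun f hf h =>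
    hN₁ (Ideal.pow_le_pow_right (le_max_right _ _) (by
      have := (m ^ N).sub_mem h hf.2
      rwa [sub_sub_cancel] at this))
  have hF0 : ∀ f ∈ F, f ≠ 0 := fun f hf h => hFne f hf (h ▸ zero_mem _)
  let C : R → Finset (Ideal R) := fun f =>
    ((Ideal.span {f}).finite_minimalPrimes_of_isNoetherianRing R).toFinset.filter fun q => q.height = 1
  have hmemC : ∀ f, f ∈ F → ∀ q : Ideal R, q ∈ C f ↔ q.IsPrime ∧ q.height = 1 ∧ f ∈ q := fun f hf q => by
    simp only [C, Finset.mem_filter, Set.Finite.mem_toFinset]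
    refine ⟨fun h => ⟨h.1.isPrime, h.2, h.1.1.2 (Ideal.mem_span_singleton_self f)⟩, fun h => ⟨?_, h.2.1⟩⟩
    haveI := h.1
    refine Ideal.mem_minimalPrimes_of_height_eq ((Ideal.span_singleton_le_iff_mem q).2 h.2.2) ?_
    rw [h.2.1, Ideal.height_span_singleton_eq_one_of_mem_nonZeroDivisors
      (mem_nonZeroDivisors_of_ne_zero (hF0 f hf)) fun hu => h.1.ne_top (q.eq_top_of_isUnit_mem h.2.2 hu)]
  have hbound : ∀ f ∈ F, (C f).card ≤ L * k.factorial := by
    intro f hf
    have hsm : m ^ N ≤ m * I₀ := by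
      refine (Ideal.pow_le_pow_right (le_max_left _ _)).trans ?_
      rw [pow_succ']
      exact Ideal.mul_mono_right hN₀
    have heq : Ideal.span {f} ⊔ Ideal.ofList xs = I₀ := by
      refine le_antisymm (sup_le ((Ideal.span_singleton_le_iff_mem _).2 ?_) le_sup_right) ?_
      · have h1 : f - f₀ ∈ I₀ := (Ideal.mul_le_right : m * I₀ ≤ I₀) (hsm hf.2)
        have h2 : f₀ ∈ I₀ := Ideal.mem_sup_left (Ideal.mem_span_singleton_self f₀)
        simpa using I₀.add_mem h2 h1
      · refine Submodule.le_of_le_smul_of_le_jacobson_bot (I := m) (N := Ideal.span {f} ⊔ Ideal.ofList xs)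
          (N' := I₀) (IsNoetherian.noetherian I₀) (maximalIdeal_le_jacobson ⊥) ?_
        have h1 : f - f₀ ∈ (m • I₀ : Ideal R) := by rw [smul_eq_mul]; exact hsm hf.2
        have h2 : f₀ ∈ (Ideal.span {f} ⊔ Ideal.ofList xs) ⊔ m • I₀ := by
          have h3 := Ideal.sub_mem _
            ((Ideal.mem_sup_left (Ideal.mem_sup_left (Ideal.mem_span_singleton_self f))) :
              f ∈ (Ideal.span {f} ⊔ Ideal.ofList xs) ⊔ m • I₀)
            (Ideal.mem_sup_right h1)
          rwa [sub_sub_cancel] at h3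
        exact sup_le ((Ideal.span_singleton_le_iff_mem _).2 h2) (le_sup_right.trans le_sup_left)
    refine card_le_of_length_le (Ideal.span {f}) xs hxsm L k hlen (by rw [heq, hL]) (C f) ?_ ?_
    · intro q hq
      obtain ⟨hqp, hq1, hfq⟩ := (hmemC f hf q).1 hq
      haveI := hqp
      exact ⟨hqp, (Ideal.span_singleton_le_iff_mem q).2 hfq, ringKrullDim_quotient_eq hc q hq1 hd.symm⟩
    · intro q hq q' hq' hle
      simp only [C, Finset.mem_filter, Set.Finite.mem_toFinset] at hq hq'
      exact le_antisymm hle (hq'.1.2 hq.1.1 hle)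
  obtain ⟨f, hf, hfmax⟩ : ∃ f ∈ F, ∀ g ∈ F, (C g).card ≤ (C f).card := by
    have hf₀F : f₀ ∈ F := ⟨hf₀J, by rw [sub_self]; exact zero_mem _⟩
    have hex : ∃ n, ∀ g ∈ F, (C g).card ≤ n := ⟨_, hbound⟩
    have hspec := Nat.find_spec hex
    by_contra hc'
    push Not at hc'
    obtain ⟨g₀, hg₀, hg₀'⟩ := hc' f₀ hf₀F
    have hpos : 0 < Nat.find hex := lt_of_lt_of_le (Nat.zero_lt_of_lt hg₀') (hspec g₀ hg₀)
    refine Nat.find_min hex (show Nat.find hex - 1 < Nat.find hex by omega) fun g hg => ?_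
    obtain ⟨g', hg', hlt⟩ := hc' g hg
    have := hspec g' hg'
    omega
  have hf0 := hF0 f hf
  by_cases hall : ∀ (q : Ideal R) [q.IsPrime], q.height = 1 → f ∈ q →
      Ideal.span {algebraMap R (Localization.AtPrime q) f} = maximalIdeal (Localization.AtPrime q)
  · exact ⟨f, hf.1, hf0, isReduced_of_local hf0 hall⟩
  push Not at hall
  obtain ⟨q, hqp, hq1, hfq, hne⟩ := hall
  have hf2 : algebraMap R (Localization.AtPrime q) f ∈ maximalIdeal (Localization.AtPrime q) ^ 2 :=
    by_contra fun h => hne (span_eq_max q hq1 hfq h)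
  obtain ⟨t, htJ, htq, ht2⟩ := exists_mem_notMem_sq hJ hJ0 q hq1
  by_cases hqm : q = m
  · -- dimension one
    refine ⟨t, htJ, fun h => ht2 (by rw [h, map_zero]; exact zero_mem _), ?_⟩
    refine isReduced_of_local (fun h => ht2 (by rw [h, map_zero]; exact zero_mem _)) ?_
    intro P hP hP1 _
    have hPm : P = q := by
      rw [hqm]
      by_contra hPne
      have hlt : P < m := lt_of_le_of_ne (le_maximalIdeal hP.ne_top) hPne
      have h2 := Ideal.height_strict_mono_of_isPrime hlt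
      rw [hP1, ← hqm, hq1] at h2
      exact lt_irrefl _ h2
    subst hPm
    exact span_eq_max P hP1 htq ht2
  obtain ⟨s, hsN, hsq, hsC⟩ : ∃ s, s ∈ m ^ N ∧ s ∉ q ∧ ∀ (p : Ideal R) [p.IsPrime], p ∈ C f → p ≠ q →
      algebraMap R (Localization.AtPrime p) s ∈
        Ideal.span {algebraMap R (Localization.AtPrime p) f} * maximalIdeal (Localization.AtPrime p) :=
    exists_deep m N q (fun h => hqm (le_antisymm (le_maximalIdeal hqp.ne_top) h)) (C f)
      (fun p hp => ⟨((hmemC f hf p).1 hp).1, ((hmemC f hf p).1 hp).2.1⟩) hq1 hf0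
  set g := t * s with hg
  have hg2 : algebraMap R (Localization.AtPrime q) g ∉ maximalIdeal (Localization.AtPrime q) ^ 2 := by
    rw [hg, map_mul, mul_comm,
      Ideal.unit_mul_mem_iff_mem _ (IsLocalization.map_units _ (⟨s, hsq⟩ : q.primeCompl))]
    exact ht2
  set f' := f + g with hf'
  have hf'F : f' ∈ F := ⟨add_mem hf.1 (J.mul_mem_right s htJ), by
    rw [hf', show f + g - f₀ = (f - f₀) + g by ring]
    exact add_mem hf.2 (Ideal.mul_mem_left _ t hsN)⟩
  have hassoc : ∀ (p : Ideal R) [p.IsPrime], p ∈ C f → p ≠ q →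
      Ideal.span {algebraMap R (Localization.AtPrime p) f'} = Ideal.span {algebraMap R (Localization.AtPrime p) f} := by
    intro p _ hp hpq
    have hgm : algebraMap R (Localization.AtPrime p) g ∈
        Ideal.span {algebraMap R (Localization.AtPrime p) f} * maximalIdeal (Localization.AtPrime p) := by
      rw [hg, map_mul]
      exact Ideal.mul_mem_left _ _ (hsC p hp hpq)
    obtain ⟨z, hz, hzg⟩ := Ideal.mem_span_singleton_mul.1 hgm
    rw [hf', map_add, ← hzg, ← mul_one_add, Ideal.span_singleton_mul_right_unit]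
    by_contra hu
    have h1 : 1 + z ∈ maximalIdeal (Localization.AtPrime p) := hu
    exact (maximalIdeal.isMaximal (Localization.AtPrime p)).ne_top ((Ideal.eq_top_iff_one _).2
      (by simpa using sub_mem h1 hz))
  have hsub : C f ⊆ C f' := fun p hp => by
    obtain ⟨hpp, hp1, hfp⟩ := (hmemC f hf p).1 hp
    refine (hmemC f' hf'F p).2 ⟨hpp, hp1, ?_⟩
    rcases eq_or_ne p q with rfl | hpq
    · exact add_mem hfp (p.mul_mem_right s htq)
    · haveI := hpp
      rw [← IsLocalization.AtPrime.to_map_mem_maximal_iff (Localization.AtPrime p) p f',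
        ← Ideal.span_singleton_le_iff_mem, hassoc p hp hpq, Ideal.span_singleton_le_iff_mem,
        IsLocalization.AtPrime.to_map_mem_maximal_iff (Localization.AtPrime p) p f]
      exact hfp
  have hCeq : C f = C f' := Finset.eq_of_subset_of_card_le hsub (hfmax f' hf'F)
  have hq2' : algebraMap R (Localization.AtPrime q) f' ∉ maximalIdeal (Localization.AtPrime q) ^ 2 := fun h => hg2 (by
    rw [hf', map_add] at h
    simpa using sub_mem h hf2)
  have hf'q : f' ∈ q := ((hmemC f' hf'F q).1 (hCeq ▸ (hmemC f hf q).2 ⟨hqp, hq1, hfq⟩)).2.2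
  obtain ⟨h, hh⟩ : f' ∣ f := dvd_of_local (hF0 f' hf'F) fun p hpp hp1 hfp => by
    rcases eq_or_ne p q with rfl | hpq
    · rw [span_eq_max p hp1 hfp hq2']
      exact (IsLocalization.AtPrime.to_map_mem_maximal_iff (Localization.AtPrime p) p f).2 hfq
    · rw [hassoc p (hCeq ▸ (hmemC f' hf'F p).2 ⟨hpp, hp1, hfp⟩) hpq]
      exact Ideal.mem_span_singleton_self _
  have hhq : h ∈ q := by
    by_contra hnot
    refine hq2' ?_
    rw [hh, map_mul, mul_comm, Ideal.unit_mul_mem_iff_mem _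
      (IsLocalization.map_units _ (⟨h, hnot⟩ : q.primeCompl))] at hf2
    exact hf2
  exfalso
  refine hFne f hf ?_
  have hu : IsUnit (1 - h) := isUnit_one_sub_self_of_mem_nonunits h (le_maximalIdeal hqp.ne_top hhq)
  refine (Ideal.unit_mul_mem_iff_mem _ hu).1 ?_
  rw [show (1 - h) * f = h * t * s by rw [hf', hg] at hh; linear_combination hh]
  exact Ideal.mul_mem_left _ _ hsN

end Groth.Agent.ReducedHyp
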